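import Mathlib
import Groth.Prelude
import Groth.Agent.Lib.Helper5.FSm.PSComplete
import Groth.Agent.Lib.Helper5.CA.PSExt
import Groth.Agent.Lib.Helper6.ArtFunFormalLift
import Groth.Agent.Lib.Helper6.ArtFunSurj

/-! Helper8: power series rings over coefficient rings as coefficient rings. -/

set_option autoImplicit false
universe u v

open IsLocalRing ArtFun ArtFun.Art CategoryTheory

namespace Groth.Agent.H8.ArtPS

variable {Λ : Type u} {k : Type u} [CommRing Λ] [Field k] [Algebra Λ k]

section Decomp

variable {A : Type u} [CommRing A] (n : ℕ)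

/-- decomposition of a power series up to second order. -/
lemma exists_decomp_sq (f : MvPowerSeries (Fin n) A) :
    ∃ (α : Fin n → A) (g : MvPowerSeries (Fin n) A),
      g ∈ Ideal.span (Set.range (MvPowerSeries.X : Fin n → MvPowerSeries (Fin n) A)) ^ 2 ∧
      f = MvPowerSeries.C (MvPowerSeries.constantCoeff f) +
        ∑ i, MvPowerSeries.C (α i) * MvPowerSeries.X i + g := by
  classical
  have h1 : f - MvPowerSeries.C (MvPowerSeries.constantCoeff f) ∈
      Ideal.span (Set.range (MvPowerSeries.X : Fin n → MvPowerSeries (Fin n) A)) := by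
    rw [Groth.Agent.H4.MvPSVars.mem_span_range_X_iff, map_sub, MvPowerSeries.constantCoeff_C,
      sub_self]
  obtain ⟨a, ha⟩ := (Ideal.mem_span_range_iff_exists_fun).mp h1
  refine ⟨fun i => MvPowerSeries.constantCoeff (a i),
    ∑ i, (a i - MvPowerSeries.C (MvPowerSeries.constantCoeff (a i))) * MvPowerSeries.X i, ?_, ?_⟩
  · refine Ideal.sum_mem _ fun i _ => ?_
    rw [pow_two]
    refine Ideal.mul_mem_mul ?_ (Ideal.subset_span ⟨i, rfl⟩)
    rw [Groth.Agent.H4.MvPSVars.mem_span_range_X_iff, map_sub, MvPowerSeries.constantCoeff_C,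
      sub_self]
  · rw [add_assoc, ← Finset.sum_add_distrib]
    have : ∀ i, MvPowerSeries.C (MvPowerSeries.constantCoeff (a i)) * MvPowerSeries.X i +
        (a i - MvPowerSeries.C (MvPowerSeries.constantCoeff (a i))) * MvPowerSeries.X i =
        a i * MvPowerSeries.X i := fun i => by ring
    simp_rw [this]
    rw [ha]
    ring

end Decomp

section PS

variable (R : CRing Λ k) (n : ℕ)

/-- the constant coefficient as an algebra map. -/
noncomputable def constCoeffₐ : MvPowerSeries (Fin n) R.carrier →ₐ[Λ] R.carrier :=
  { (MvPowerSeries.constantCoeff : MvPowerSeries (Fin n) R.carrier →+* R.carrier) with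
    commutes' := fun l => by
      change MvPowerSeries.constantCoeff (algebraMap Λ (MvPowerSeries (Fin n) R.carrier) l) = _
      rw [MvPowerSeries.algebraMap_apply]
      simp }

/-- power series over a coefficient ring. -/
noncomputable abbrev psCRing : CRing Λ k :=
  haveI := R.isAdicComplete
  { carrier := MvPowerSeries (Fin n) R.carrier
    res := R.res.comp (constCoeffₐ R n)
    res_surjective := fun c => by
      obtain ⟨a, ha⟩ := R.res_surjective c
      exact ⟨MvPowerSeries.C a, by
        change R.res (MvPowerSeries.constantCoeff (MvPowerSeries.C a)) = c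
        rw [MvPowerSeries.constantCoeff_C, ha]⟩
    isAdicComplete := inferInstance }

/-- the constants. -/
noncomputable def psC : R.carrier →ₐ[Λ] (psCRing R n).carrier :=
  IsScalarTower.toAlgHom Λ R.carrier (MvPowerSeries (Fin n) R.carrier)

lemma psC_apply (r : R.carrier) : psC R n r = (MvPowerSeries.C r : MvPowerSeries (Fin n) R.carrier) := by
  change algebraMap R.carrier (MvPowerSeries (Fin n) R.carrier) r = _
  rw [MvPowerSeries.algebraMap_apply]
  simp

lemma res_psC : (psCRing R n).res.comp (psC R n) = R.res := by
  apply AlgHom.ext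
  intro r
  change R.res (MvPowerSeries.constantCoeff (psC R n r)) = R.res r
  rw [psC_apply, MvPowerSeries.constantCoeff_C]

lemma maximalIdeal_ps :
    maximalIdeal (MvPowerSeries (Fin n) R.carrier) =
      (maximalIdeal R.carrier).map (MvPowerSeries.C : R.carrier →+* MvPowerSeries (Fin n) R.carrier) ⊔
        Ideal.span (Set.range (MvPowerSeries.X : Fin n → MvPowerSeries (Fin n) R.carrier)) := by
  rw [Groth.Agent.H5.Cohen2.maximalIdeal_mvPowerSeries, Groth.Agent.H5.CA.ker_constantCoeff_eq_span]

end PS

end Groth.Agent.H8.ArtPS
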