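import Mathlib
import Groth.Prelude
import Groth.Agent.Lib.Helper8.ArtObs.PSCRing
import Groth.Agent.Lib.Helper8.ArtObs.Count
import Groth.Agent.Lib.Helper6.ArtFunProrep

/-! Helper8: `h_S → h_R` is smooth iff `S` is a power series ring over `R`. -/

set_option autoImplicit false
universe u v

open IsLocalRing ArtFun ArtFun.Art CategoryTheory

namespace Groth.Agent.H8.ArtPS

variable {Λ : Type u} {k : Type u} [CommRing Λ] [Field k] [Algebra Λ k]

section Converse

variable (R S : CRing Λ k) [Algebra R.carrier S.carrier] [IsScalarTower Λ R.carrier S.carrier]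
  (hRS : S.res.comp (IsScalarTower.toAlgHom Λ R.carrier S.carrier) = R.res)

lemma X_mem_maximalIdeal (n : ℕ) (j : Fin n) :
    (MvPowerSeries.X j : MvPowerSeries (Fin n) R.carrier) ∈
      maximalIdeal (MvPowerSeries (Fin n) R.carrier) := by
  rw [maximalIdeal_ps]
  exact Ideal.mem_sup_right (Ideal.subset_span ⟨j, rfl⟩)

theorem isVersal_of_equiv (n : ℕ) (e : S.carrier ≃ₐ[R.carrier] MvPowerSeries (Fin n) R.carrier) :
    IsVersal ((Family.self R.carrier R.res).along
      (IsScalarTower.toAlgHom Λ R.carrier S.carrier) hRS) := by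
  intro B A μ hμ φ y hy
  -- unpack the hypothesis
  have hy' : ∀ r : R.carrier, μ ((y : HomSet R.carrier R.res B).1 r) =
      φ.1 (algebraMap R.carrier S.carrier r) := fun r =>
    congrArg (fun t : HomSet R.carrier R.res A => t.1 r) hy
  obtain ⟨y, hyres⟩ := (y : HomSet R.carrier R.res B)
  change ∀ r : R.carrier, μ (y r) = φ.1 (algebraMap R.carrier S.carrier r) at hy'
  letI algB : Algebra R.carrier B := y.toRingHom.toAlgebra
  letI algA : Algebra R.carrier A := (μ.toAlgHom.toRingHom.comp y.toRingHom).toAlgebra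
  have halgB : ∀ r : R.carrier, algebraMap R.carrier B r = y r := fun r => rfl
  have halgA : ∀ r : R.carrier, algebraMap R.carrier A r = μ (y r) := fun r => rfl
  -- `e.symm X_j` lies in the maximal ideal
  have hXm : ∀ j, e.symm (MvPowerSeries.X j) ∈ maximalIdeal S.carrier := by
    intro j
    rw [mem_maximalIdeal, mem_nonunits_iff]
    intro hu
    have h1 : IsUnit (e (e.symm (MvPowerSeries.X j))) := hu.map e
    rw [AlgEquiv.apply_symm_apply] at h1
    exact (mem_maximalIdeal _).mp (X_mem_maximalIdeal R n j) h1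
  have hφm : ∀ j, φ.1 (e.symm (MvPowerSeries.X j)) ∈ maximalIdeal A := by
    intro j
    rw [A.mem_maximalIdeal_iff]
    have h1 : A.res (φ.1 (e.symm (MvPowerSeries.X j))) = S.res (e.symm (MvPowerSeries.X j)) :=
      congrArg (fun t : S.carrier →ₐ[Λ] k => t (e.symm (MvPowerSeries.X j))) φ.2
    rw [h1, ← CRing.mem_maximalIdeal_iff]
    exact hXm j
  choose c hc using fun j : Fin n => hμ (φ.1 (e.symm (MvPowerSeries.X j)))
  have hcm : ∀ j, c j ∈ maximalIdeal B := by
    intro j
    rw [B.mem_maximalIdeal_iff, ← Art.res_app μ, hc j, ← A.mem_maximalIdeal_iff]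
    exact hφm j
  obtain ⟨ψT, hψT⟩ := Groth.Agent.H5.CA.exists_algHom_mvPowerSeries' R.carrier B
    (maximalIdeal B) c hcm
  -- the two maps `T → A` agree
  let f₁ : MvPowerSeries (Fin n) R.carrier →ₐ[R.carrier] A :=
    { μ.toAlgHom.toRingHom.comp ψT.toRingHom with
      commutes' := fun r => by
        change μ (ψT (algebraMap R.carrier _ r)) = μ (y r)
        rw [AlgHom.commutes]
        rfl }
  let f₂ : MvPowerSeries (Fin n) R.carrier →ₐ[R.carrier] A :=
    { φ.1.toRingHom.comp e.symm.toAlgHom.toRingHom with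
      commutes' := fun r => by
        change φ.1 (e.symm (algebraMap R.carrier _ r)) = μ (y r)
        rw [AlgEquiv.commutes, hy'] }
  have hf12 : f₁ = f₂ := by
    apply Groth.Agent.H5.CA.algHom_ext_of_isHausdorff_fin (maximalIdeal A)
    · intro j
      change μ (ψT (MvPowerSeries.X j)) ∈ _
      rw [hψT, hc]
      exact hφm j
    · intro j
      change μ (ψT (MvPowerSeries.X j)) = φ.1 (e.symm (MvPowerSeries.X j))
      rw [hψT, hc]
  have hμψ : ∀ s : S.carrier, μ (ψT (e s)) = φ.1 s := by
    intro s
    have := congrArg (fun t : MvPowerSeries (Fin n) R.carrier →ₐ[R.carrier] A => t (e s)) hf12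
    change μ (ψT (e s)) = φ.1 (e.symm (e s)) at this
    rw [this, AlgEquiv.symm_apply_apply]
  -- the lift
  let ψ : S.carrier →ₐ[Λ] B :=
    { ψT.toRingHom.comp e.toAlgHom.toRingHom with
      commutes' := fun l => by
        change ψT (e (algebraMap Λ S.carrier l)) = algebraMap Λ B l
        rw [IsScalarTower.algebraMap_apply Λ R.carrier S.carrier, AlgEquiv.commutes,
          AlgHom.commutes]
        change y (algebraMap Λ R.carrier l) = _
        rw [AlgHom.commutes] }
  have hψ : ∀ s, ψ s = ψT (e s) := fun s => rfl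
  have hψres : B.res.comp ψ = S.res := by
    apply AlgHom.ext
    intro s
    change B.res (ψ s) = S.res s
    rw [← Art.res_app μ, hψ, hμψ]
    exact congrArg (fun t : S.carrier →ₐ[Λ] k => t s) φ.2
  refine ⟨⟨ψ, hψres⟩, ?_, ?_⟩
  · apply Subtype.ext
    apply AlgHom.ext
    intro s
    change μ (ψ s) = φ.1 s
    rw [hψ, hμψ]
  · apply Subtype.ext
    apply AlgHom.ext
    intro r
    change ψ (algebraMap R.carrier S.carrier r) = y r
    rw [hψ, AlgEquiv.commutes, AlgHom.commutes]
    rfl

end Converse

section Forward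

variable [IsNoetherianRing Λ] [Module.Finite Λ k]
variable (R S : CRing Λ k) [Algebra R.carrier S.carrier] [IsScalarTower Λ R.carrier S.carrier]
  (hRS : S.res.comp (IsScalarTower.toAlgHom Λ R.carrier S.carrier) = R.res)

include hRS in
lemma res_algebraMap (r : R.carrier) : S.res (algebraMap R.carrier S.carrier r) = R.res r :=
  congrArg (fun t : R.carrier →ₐ[Λ] k => t r) hRS

include hRS in
lemma algebraMap_mem_maximalIdeal_iff (r : R.carrier) :
    algebraMap R.carrier S.carrier r ∈ maximalIdeal S.carrier ↔ r ∈ maximalIdeal R.carrier := by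
  rw [CRing.mem_maximalIdeal_iff, CRing.mem_maximalIdeal_iff, res_algebraMap R S hRS]

include hRS in
/-- a minimal presentation of `S` over `R`. -/
theorem exists_minimal_relPres :
    ∃ (n : ℕ) (u : MvPowerSeries (Fin n) R.carrier →ₐ[R.carrier] S.carrier),
      (∀ j, u (MvPowerSeries.X j) ∈ maximalIdeal S.carrier) ∧
      Function.Surjective u ∧
      RingHom.ker u ≤ (maximalIdeal R.carrier).map
        (MvPowerSeries.C : R.carrier →+* MvPowerSeries (Fin n) R.carrier) ⊔
        maximalIdeal (MvPowerSeries (Fin n) R.carrier) ^ 2 := by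
  classical
  haveI := R.isAdicComplete
  haveI := S.isAdicComplete
  obtain ⟨𝔱, h𝔱⟩ : ∃ 𝔱 : Ideal S.carrier, 𝔱 = (maximalIdeal R.carrier).map
    (algebraMap R.carrier S.carrier) ⊔ maximalIdeal S.carrier ^ 2 := ⟨_, rfl⟩
  have hmapi : (maximalIdeal R.carrier).map (algebraMap R.carrier S.carrier) ≤
      maximalIdeal S.carrier := by
    rw [Ideal.map_le_iff_le_comap]
    intro r hr
    exact (algebraMap_mem_maximalIdeal_iff R S hRS r).2 hr
  have h𝔱m : 𝔱 ≤ maximalIdeal S.carrier := by
    rw [h𝔱]
    exact sup_le hmapi (Ideal.pow_le_self two_ne_zero)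
  obtain ⟨s, hs, hmin⟩ := Groth.Agent.H8.ArtObs.exists_minimal (maximalIdeal S.carrier) 𝔱 h𝔱m
  let n := s.card
  let x : Fin n → S.carrier := fun j => (s.equivFin.symm j : S.carrier)
  have hx_range : Set.range x = (s : Set S.carrier) := by
    ext z
    constructor
    · rintro ⟨j, rfl⟩
      exact (s.equivFin.symm j).2
    · intro hz
      exact ⟨s.equivFin ⟨z, hz⟩, by simp [x]⟩
  have hxm : ∀ j, x j ∈ maximalIdeal S.carrier := fun j => by
    rw [← hs]
    exact Ideal.mem_sup_left (Ideal.subset_span (s.equivFin.symm j).2)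
  obtain ⟨u, hu⟩ := Groth.Agent.H5.CA.exists_algHom_mvPowerSeries' R.carrier S.carrier
    (maximalIdeal S.carrier) x hxm
  have huC : ∀ r : R.carrier, u (MvPowerSeries.C r) = algebraMap R.carrier S.carrier r := by
    intro r
    have : (MvPowerSeries.C r : MvPowerSeries (Fin n) R.carrier) = algebraMap R.carrier _ r := by
      rw [MvPowerSeries.algebraMap_apply]; simp
    rw [this, AlgHom.commutes]
  have hum : maximalIdeal (MvPowerSeries (Fin n) R.carrier) ≤
      (maximalIdeal S.carrier).comap u.toRingHom := by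
    rw [maximalIdeal_ps]
    refine sup_le ?_ ?_
    · rw [Ideal.map_le_iff_le_comap]
      intro r hr
      rw [Ideal.mem_comap, Ideal.mem_comap]
      change u (MvPowerSeries.C r) ∈ _
      rw [huC]
      exact (algebraMap_mem_maximalIdeal_iff R S hRS r).2 hr
    · rw [Ideal.span_le]
      rintro _ ⟨j, rfl⟩
      rw [SetLike.mem_coe, Ideal.mem_comap]
      change u (MvPowerSeries.X j) ∈ _
      rw [hu]
      exact hxm j
  have hmap : (maximalIdeal (MvPowerSeries (Fin n) R.carrier)).map u.toRingHom =
      maximalIdeal S.carrier := by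
    apply le_antisymm (Ideal.map_le_iff_le_comap.2 hum)
    refine Submodule.le_of_le_smul_of_le_jacobson_bot (IsNoetherian.noetherian _)
      (IsLocalRing.maximalIdeal_le_jacobson ⊥) ?_
    rw [smul_eq_mul, ← pow_two]
    conv_lhs => rw [← hs, h𝔱]
    rw [← sup_assoc]
    refine sup_le_sup_right (sup_le ?_ ?_) _
    · rw [Ideal.span_le, ← hx_range]
      rintro _ ⟨j, rfl⟩
      rw [← hu j]
      exact Ideal.mem_map_of_mem _ (X_mem_maximalIdeal R n j)
    · rw [Ideal.map_le_iff_le_comap]
      intro r hr
      rw [Ideal.mem_comap, ← huC]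
      refine Ideal.mem_map_of_mem u.toRingHom ?_
      rw [maximalIdeal_ps]
      exact Ideal.mem_sup_left (Ideal.mem_map_of_mem _ hr)
  refine ⟨n, u, fun j => by rw [hu]; exact hxm j, ?_, ?_⟩
  · -- surjectivity
    haveI : IsHausdorff ((maximalIdeal (MvPowerSeries (Fin n) R.carrier)).map u.toRingHom)
        S.carrier := by
      rw [hmap]; infer_instance
    have := surjective_of_mk_map_comp_surjective
      (I := maximalIdeal (MvPowerSeries (Fin n) R.carrier)) u.toRingHom ?_
    · exact this
    · intro y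
      obtain ⟨y', rfl⟩ := Ideal.Quotient.mk_surjective y
      obtain ⟨r, hr⟩ := R.res_surjective (S.res y')
      refine ⟨MvPowerSeries.C r, ?_⟩
      show Ideal.Quotient.mk _ (u (MvPowerSeries.C r)) = Ideal.Quotient.mk _ y'
      rw [huC, Ideal.Quotient.eq, hmap, CRing.mem_maximalIdeal_iff, map_sub,
        res_algebraMap R S hRS, hr, sub_self]
  · -- the kernel
    intro f hf
    obtain ⟨α, g, hg, hfeq⟩ := exists_decomp_sq n f
    have hgm : g ∈ maximalIdeal (MvPowerSeries (Fin n) R.carrier) ^ 2 := by
      refine Ideal.pow_right_mono ?_ 2 hg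
      rw [maximalIdeal_ps]
      exact le_sup_right
    have hug : u g ∈ maximalIdeal S.carrier ^ 2 := by
      have h1 := Ideal.mem_map_of_mem u.toRingHom hgm
      rw [Ideal.map_pow, hmap] at h1
      exact h1
    have hf0 : algebraMap R.carrier S.carrier (MvPowerSeries.constantCoeff f) +
        ∑ j, algebraMap R.carrier S.carrier (α j) * x j + u g = 0 := by
      have h1 := (RingHom.mem_ker).mp hf
      rw [hfeq, map_add, map_add, map_sum] at h1
      simp only [map_mul, huC, hu] at h1
      exact h1
    have hsum_m : ∑ j, algebraMap R.carrier S.carrier (α j) * x j ∈ maximalIdeal S.carrier :=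
      Ideal.sum_mem _ fun j _ => Ideal.mul_mem_left _ _ (hxm j)
    have hugm : u g ∈ maximalIdeal S.carrier := Ideal.pow_le_self two_ne_zero hug
    have hc0 : MvPowerSeries.constantCoeff f ∈ maximalIdeal R.carrier := by
      rw [← algebraMap_mem_maximalIdeal_iff R S hRS]
      have : algebraMap R.carrier S.carrier (MvPowerSeries.constantCoeff f) =
          -(∑ j, algebraMap R.carrier S.carrier (α j) * x j + u g) := by
        rw [eq_neg_iff_add_eq_zero, ← add_assoc]; exact hf0
      rw [this]
      exact (Ideal.neg_mem_iff _).mpr (Ideal.add_mem _ hsum_m hugm)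
    have hlin : ∑ j, algebraMap R.carrier S.carrier (α j) * x j ∈
        maximalIdeal S.carrier * maximalIdeal S.carrier ⊔ 𝔱 := by
      refine Ideal.mem_sup_right ?_
      have : ∑ j, algebraMap R.carrier S.carrier (α j) * x j =
          -(algebraMap R.carrier S.carrier (MvPowerSeries.constantCoeff f) + u g) := by
        rw [eq_neg_iff_add_eq_zero]
        rw [← hf0]
        ring
      rw [this, h𝔱]
      refine (Ideal.neg_mem_iff _).mpr (Ideal.add_mem _ ?_ ?_)
      · exact Ideal.mem_sup_left (Ideal.mem_map_of_mem _ hc0)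
      · exact Ideal.mem_sup_right hug
    have hsum_eq : ∑ j : s, algebraMap R.carrier S.carrier (α (s.equivFin j)) * (j : S.carrier) =
        ∑ j, algebraMap R.carrier S.carrier (α j) * x j := by
      rw [← Equiv.sum_comp s.equivFin.symm]
      apply Finset.sum_congr rfl
      intro j _
      simp [x]
    have hα := Groth.Agent.H8.ArtObs.indep_of_minimal (maximalIdeal S.carrier) 𝔱 s hs hmin
      (fun j => algebraMap R.carrier S.carrier (α (s.equivFin j))) (by rw [hsum_eq]; exact hlin)
    have hαm : ∀ j, α j ∈ maximalIdeal R.carrier := by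
      intro j
      have h1 := hα (s.equivFin.symm j)
      rw [Equiv.apply_symm_apply, algebraMap_mem_maximalIdeal_iff R S hRS] at h1
      exact h1
    rw [hfeq]
    refine Ideal.add_mem _ (Ideal.add_mem _ ?_ ?_) (Ideal.mem_sup_right hgm)
    · exact Ideal.mem_sup_left (Ideal.mem_map_of_mem _ hc0)
    · refine Ideal.sum_mem _ fun j _ => ?_
      exact Ideal.mem_sup_left (Ideal.mul_mem_right _ _ (Ideal.mem_map_of_mem _ (hαm j)))

lemma isUniversal_self : IsUniversal (Family.self R.carrier R.res) :=
  fun _ => Function.bijective_id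

include hRS in
theorem exists_equiv_of_isVersal
    (hv : IsVersal ((Family.self R.carrier R.res).along
      (IsScalarTower.toAlgHom Λ R.carrier S.carrier) hRS)) :
    ∃ n : ℕ, Nonempty (S.carrier ≃ₐ[R.carrier] MvPowerSeries (Fin n) R.carrier) := by
  classical
  haveI := R.isAdicComplete
  haveI := S.isAdicComplete
  obtain ⟨n, u, hux, husurj, huker⟩ := exists_minimal_relPres R S hRS
  have huC : ∀ r : R.carrier, u (MvPowerSeries.C r) = algebraMap R.carrier S.carrier r := by
    intro r
    have : (MvPowerSeries.C r : MvPowerSeries (Fin n) R.carrier) = algebraMap R.carrier _ r := by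
      rw [MvPowerSeries.algebraMap_apply]; simp
    rw [this, AlgHom.commutes]
  -- `u` as a morphism of coefficient rings
  let uΛ : (psCRing R n).carrier →ₐ[Λ] S.carrier := u.restrictScalars Λ
  have huΛ : ∀ t, uΛ t = u t := fun t => rfl
  have hures : S.res.comp uΛ = (psCRing R n).res := by
    apply AlgHom.ext
    intro t
    change S.res (u t) = R.res (MvPowerSeries.constantCoeff t)
    obtain ⟨α, g, hg, hteq⟩ := exists_decomp_sq n t
    have h1 : t - MvPowerSeries.C (MvPowerSeries.constantCoeff t) ∈
        Ideal.span (Set.range (MvPowerSeries.X : Fin n → MvPowerSeries (Fin n) R.carrier)) := by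
      rw [Groth.Agent.H4.MvPSVars.mem_span_range_X_iff, map_sub, MvPowerSeries.constantCoeff_C,
        sub_self]
    have h2 : u (t - MvPowerSeries.C (MvPowerSeries.constantCoeff t)) ∈
        maximalIdeal S.carrier := by
      have h3 : Ideal.span (Set.range (MvPowerSeries.X : Fin n → MvPowerSeries (Fin n) R.carrier))
          ≤ (maximalIdeal S.carrier).comap u.toRingHom := by
        rw [Ideal.span_le]
        rintro _ ⟨j, rfl⟩
        exact hux j
      exact h3 h1
    rw [CRing.mem_maximalIdeal_iff, map_sub, map_sub, huC, res_algebraMap R S hRS,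
      sub_eq_zero] at h2
    exact h2
  -- the relative lift
  have hinj : ∀ ⦃B A A₁ A₂ : Art Λ k⦄ (p₁ : B ⟶ A₁) (p₂ : B ⟶ A₂) (f₁ : A₁ ⟶ A) (f₂ : A₂ ⟶ A)
      (h : IsFibreProd p₁ p₂ f₁ f₂), Function.Surjective f₂ →
      Function.Injective (cmp (hR R.carrier R.res) h) := fun B A A₁ A₂ p₁ p₂ f₁ f₂ h _ =>
    (Groth.Agent.H6.isLeftExact_of_isUniversal _ (isUniversal_self R) p₁ p₂ f₁ f₂ h).1
  obtain ⟨ψ, hψ, hψu, hψη⟩ := Groth.Agent.H6.exists_relative_lift uΛ hures
    ((Family.self R.carrier R.res).along (IsScalarTower.toAlgHom Λ R.carrier S.carrier) hRS) hv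
    hinj husurj
    ((Family.self R.carrier R.res).along (psC R n) (res_psC R n)).toFormalElt
    (AlgHom.id Λ S.carrier) (AlgHom.comp_id _) (by
      apply FormalElt.ext'
      intro m
      apply Subtype.ext
      apply AlgHom.ext
      intro r
      change Ideal.Quotient.mk _ (algebraMap R.carrier S.carrier r) =
        Ideal.Quotient.mk _ (u (psC R n r))
      rw [psC_apply, huC])
  have hψi : ∀ r : R.carrier, ψ (algebraMap R.carrier S.carrier r) = psC R n r := by
    have h1 : ψ.comp (IsScalarTower.toAlgHom Λ R.carrier S.carrier) = psC R n := by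
      apply Groth.Agent.H6.cring_hom_ext (psCRing R n)
      intro m
      have h2 := congrArg (fun η : FormalElt (hR R.carrier R.res) (psCRing R n) =>
        ((η.elt m : HomSet R.carrier R.res ((psCRing R n).trunc m))).1) hψη
      exact h2
    intro r
    exact congrArg (fun t : R.carrier →ₐ[Λ] (psCRing R n).carrier => t r) h1
  have hψu' : ∀ s : S.carrier, u (ψ s) = s := fun s =>
    congrArg (fun t : S.carrier →ₐ[Λ] S.carrier => t s) hψu
  have hinjψ : Function.Injective ψ := fun a b hab => by
    rw [← hψu' a, ← hψu' b, hab]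
  -- surjectivity of `ψ`
  have hψm : maximalIdeal S.carrier ≤ (maximalIdeal (MvPowerSeries (Fin n) R.carrier)).comap
      ψ.toRingHom := CRing.maximalIdeal_le_comap (R' := S) (R := psCRing R n) ψ hψ
  have hmapψ : (maximalIdeal S.carrier).map ψ.toRingHom =
      maximalIdeal (MvPowerSeries (Fin n) R.carrier) := by
    apply le_antisymm (Ideal.map_le_iff_le_comap.2 hψm)
    refine Submodule.le_of_le_smul_of_le_jacobson_bot (IsNoetherian.noetherian _)
      (IsLocalRing.maximalIdeal_le_jacobson ⊥) ?_
    rw [smul_eq_mul, ← pow_two]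
    have hC : (maximalIdeal R.carrier).map
        (MvPowerSeries.C : R.carrier →+* MvPowerSeries (Fin n) R.carrier) ≤
        (maximalIdeal S.carrier).map ψ.toRingHom := by
      rw [Ideal.map_le_iff_le_comap]
      intro r hr
      rw [Ideal.mem_comap, ← psC_apply, ← hψi]
      exact Ideal.mem_map_of_mem ψ.toRingHom ((algebraMap_mem_maximalIdeal_iff R S hRS r).2 hr)
    conv_lhs => rw [maximalIdeal_ps]
    refine sup_le (hC.trans le_sup_left) ?_
    rw [Ideal.span_le]
    rintro _ ⟨j, rfl⟩
    have h1 : ψ (u (MvPowerSeries.X j)) - MvPowerSeries.X j ∈ RingHom.ker u := by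
      rw [RingHom.mem_ker, map_sub, hψu', sub_self]
    have h2 := huker h1
    have h3 : (MvPowerSeries.X j : MvPowerSeries (Fin n) R.carrier) =
        ψ (u (MvPowerSeries.X j)) - (ψ (u (MvPowerSeries.X j)) - MvPowerSeries.X j) := by ring
    rw [SetLike.mem_coe, h3]
    refine Ideal.sub_mem _ (Ideal.mem_sup_left (Ideal.mem_map_of_mem ψ.toRingHom (hux j))) ?_
    exact (sup_le (hC.trans le_sup_left) le_sup_right) h2
  have hsurjψ : Function.Surjective ψ := by
    haveI : IsHausdorff ((maximalIdeal S.carrier).map ψ.toRingHom)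
        (MvPowerSeries (Fin n) R.carrier) := by
      rw [hmapψ]; infer_instance
    have := surjective_of_mk_map_comp_surjective (I := maximalIdeal S.carrier) ψ.toRingHom ?_
    · exact this
    · intro y
      obtain ⟨y', rfl⟩ := Ideal.Quotient.mk_surjective y
      refine ⟨algebraMap R.carrier S.carrier (MvPowerSeries.constantCoeff y'), ?_⟩
      show Ideal.Quotient.mk _ (ψ (algebraMap R.carrier S.carrier (MvPowerSeries.constantCoeff y'))) =
        Ideal.Quotient.mk _ y'
      rw [hψi, psC_apply, Ideal.Quotient.eq, hmapψ, maximalIdeal_ps]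
      refine Ideal.mem_sup_right ?_
      rw [Groth.Agent.H4.MvPSVars.mem_span_range_X_iff, map_sub, MvPowerSeries.constantCoeff_C,
        sub_self]
  -- the `R`-algebra isomorphism
  let ψR : S.carrier →ₐ[R.carrier] MvPowerSeries (Fin n) R.carrier :=
    { ψ.toRingHom with
      commutes' := fun r => by
        change ψ (algebraMap R.carrier S.carrier r) = algebraMap R.carrier _ r
        rw [hψi]
        rfl }
  exact ⟨n, ⟨AlgEquiv.ofBijective ψR ⟨hinjψ, hsurjψ⟩⟩⟩

end Forward

end Groth.Agent.H8.ArtPS
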