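import Mathlib
import Groth.Prelude
import Groth.Agent.Lib.Helper8.ArtObs.HRObs

/-! Helper8: obstructions are spanned by obstructions along tiny extensions. -/

set_option autoImplicit false
universe u v

open IsLocalRing ArtFun ArtFun.Art CategoryTheory TensorProduct

namespace Groth.Agent.H8.ArtObs

variable {k : Type u} [Field k]

section Tiny

variable {C' C : Art k k} (p : C' ⟶ C) (hp : IsSemismallExt p)

include hp in
/-- `C'` acts on the kernel through the residue field. -/
lemma mul_ker_eq (c : C') {j : C'} (hj : j ∈ RingHom.ker p.toAlgHom) :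
    c * j = (C'.res c) • j := by
  have h1 : c - algebraMap k C' (C'.res c) ∈ maximalIdeal C' := by
    rw [C'.mem_maximalIdeal_iff, map_sub, AlgHom.commutes]
    simp
  have h2 := mul_eq_zero_of_semismall p hp h1 hj
  rw [sub_mul, sub_eq_zero] at h2
  rw [h2, Algebra.smul_def]

variable {ι : Type*} (b : Module.Basis ι k ↥(RingHom.ker p.toAlgHom)) (i : ι)

/-- the hyperplane of the kernel where the `i`-th coordinate vanishes, as an ideal. -/
def coordIdeal : Ideal C' where
  carrier := {y | ∃ h : y ∈ RingHom.ker p.toAlgHom, b.coord i ⟨y, h⟩ = 0}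
  add_mem' := by
    rintro x y ⟨hx, hx0⟩ ⟨hy, hy0⟩
    refine ⟨Ideal.add_mem _ hx hy, ?_⟩
    have : (⟨x + y, Ideal.add_mem _ hx hy⟩ : ↥(RingHom.ker p.toAlgHom)) = ⟨x, hx⟩ + ⟨y, hy⟩ := rfl
    rw [this, map_add, hx0, hy0, add_zero]
  zero_mem' := ⟨Ideal.zero_mem _, by
    have : (⟨0, Ideal.zero_mem _⟩ : ↥(RingHom.ker p.toAlgHom)) = 0 := rfl
    rw [this, map_zero]⟩
  smul_mem' := by
    rintro c y ⟨hy, hy0⟩
    have hcy : c • y ∈ RingHom.ker p.toAlgHom := Ideal.mul_mem_left _ _ hy
    refine ⟨hcy, ?_⟩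
    have : (⟨c • y, hcy⟩ : ↥(RingHom.ker p.toAlgHom)) = (C'.res c) • ⟨y, hy⟩ := by
      apply Subtype.ext
      change c * y = (C'.res c) • y
      exact mul_ker_eq p hp c hy
    rw [this, map_smul, hy0, smul_zero]

lemma mem_coordIdeal_iff (y : ↥(RingHom.ker p.toAlgHom)) :
    (y : C') ∈ coordIdeal p hp b i ↔ b.coord i y = 0 := by
  constructor
  · rintro ⟨_, h0⟩
    exact h0
  · intro h
    exact ⟨y.2, h⟩

lemma coordIdeal_le_ker : coordIdeal p hp b i ≤ RingHom.ker p.toAlgHom := fun _ hy => hy.1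

end Tiny

section Main

variable {C' C : Art k k} (p : C' ⟶ C) (hp : IsSemismallExt p)

lemma ker_le_maximalIdeal : RingHom.ker p.toAlgHom ≤ maximalIdeal C' := by
  intro x hx
  rw [C'.mem_maximalIdeal_iff, ← Art.res_app p]
  have : p x = 0 := hx
  rw [this, map_zero]

include hp in
lemma isSemismallExt_quotFactor (K : Ideal C') (hK : K ≤ maximalIdeal C')
    (hKJ : K ≤ RingHom.ker p.toAlgHom) : IsSemismallExt (quotFactor hK p hKJ) := by
  refine ⟨?_, ?_⟩
  · intro x
    obtain ⟨a, ha⟩ := hp.1 x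
    exact ⟨quotMk _ K hK a, ha⟩
  · rw [eq_bot_iff, Ideal.mul_le]
    intro a ha b hb
    obtain ⟨a, rfl⟩ := quotMk_surjective _ K hK a
    obtain ⟨b, rfl⟩ := quotMk_surjective _ K hK b
    have ha' : a ∈ maximalIdeal C' := by
      rw [Art.mem_maximalIdeal_iff] at ha ⊢
      rw [← ha]
      exact (Art.res_app (quotMk _ K hK) a).symm
    have hb' : b ∈ RingHom.ker p.toAlgHom := by
      rw [RingHom.mem_ker] at hb ⊢
      exact hb
    have h0 : a * b = 0 := mul_eq_zero_of_semismall p hp ha' hb'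
    rw [Ideal.mem_bot]
    change (quotMk _ K hK).toAlgHom a * (quotMk _ K hK).toAlgHom b = 0
    rw [← map_mul, h0, map_zero]

variable {ι : Type*} (b : Module.Basis ι k ↥(RingHom.ker p.toAlgHom)) (i : ι)

lemma coordIdeal_le_maximalIdeal : coordIdeal p hp b i ≤ maximalIdeal C' :=
  (coordIdeal_le_ker p hp b i).trans (ker_le_maximalIdeal p)

/-- the tiny extension `C'/K_i → C`. -/
noncomputable abbrev tinyExt : quot C' (coordIdeal p hp b i) (coordIdeal_le_maximalIdeal p hp b i) ⟶ C :=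
  quotFactor (coordIdeal_le_maximalIdeal p hp b i) p (coordIdeal_le_ker p hp b i)

/-- the generator of the kernel of the tiny extension. -/
noncomputable def tinyGen : ↥(RingHom.ker (tinyExt p hp b i).toAlgHom) :=
  kerToQuot (coordIdeal_le_maximalIdeal p hp b i) p (coordIdeal_le_ker p hp b i) (b i)

lemma kerToQuot_eq (y : ↥(RingHom.ker p.toAlgHom)) :
    kerToQuot (coordIdeal_le_maximalIdeal p hp b i) p (coordIdeal_le_ker p hp b i) y =
      (b.coord i y) • tinyGen p hp b i := by
  unfold tinyGen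
  rw [← map_smul, ← sub_eq_zero, ← map_sub]
  apply Subtype.ext
  change Ideal.Quotient.mk (coordIdeal p hp b i) ((y - (b.coord i y) • b i : ↥(RingHom.ker p.toAlgHom)) : C') = 0
  rw [Ideal.Quotient.eq_zero_iff_mem, mem_coordIdeal_iff, map_sub, map_smul]
  simp

lemma exists_eq_smul_tinyGen (z : ↥(RingHom.ker (tinyExt p hp b i).toAlgHom)) :
    ∃ α : k, z = α • tinyGen p hp b i := by
  obtain ⟨y, hy⟩ := quotMk_surjective C' (coordIdeal p hp b i)
    (coordIdeal_le_maximalIdeal p hp b i) z.1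
  have hyJ : y ∈ RingHom.ker p.toAlgHom := by
    have hz := z.2
    rw [RingHom.mem_ker, ← hy] at hz
    exact hz
  refine ⟨b.coord i ⟨y, hyJ⟩, ?_⟩
  rw [← kerToQuot_eq]
  apply Subtype.ext
  exact hy.symm

lemma tinyGen_ne_zero : tinyGen p hp b i ≠ 0 := by
  intro h
  have h1 : Ideal.Quotient.mk (coordIdeal p hp b i) ((b i : ↥(RingHom.ker p.toAlgHom)) : C') = 0 :=
    congrArg Subtype.val h
  rw [Ideal.Quotient.eq_zero_iff_mem, mem_coordIdeal_iff] at h1
  simp at h1

lemma toSpanSingleton_bijective :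
    Function.Bijective (LinearMap.toSpanSingleton k _ (tinyGen p hp b i)) := by
  constructor
  · rw [injective_iff_map_eq_zero]
    intro α hα
    rw [LinearMap.toSpanSingleton_apply] at hα
    rcases smul_eq_zero.mp hα with h | h
    · exact h
    · exact absurd h (tinyGen_ne_zero p hp b i)
  · intro z
    obtain ⟨α, rfl⟩ := exists_eq_smul_tinyGen p hp b i z
    exact ⟨α, rfl⟩

/-- the identification of the kernel of the tiny extension with `k`. -/
noncomputable def tinyEquiv : ↥(RingHom.ker (tinyExt p hp b i).toAlgHom) ≃ₗ[k] k :=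
  (LinearEquiv.ofBijective _ (toSpanSingleton_bijective p hp b i)).symm

lemma tinyEquiv_kerToQuot (y : ↥(RingHom.ker p.toAlgHom)) :
    tinyEquiv p hp b i
      (kerToQuot (coordIdeal_le_maximalIdeal p hp b i) p (coordIdeal_le_ker p hp b i) y) =
      b.coord i y := by
  rw [kerToQuot_eq]
  unfold tinyEquiv
  rw [LinearEquiv.symm_apply_eq]
  rfl

lemma isSmallExt_tinyExt : IsSmallExt (tinyExt p hp b i) := by
  have hss := isSemismallExt_quotFactor p hp (coordIdeal p hp b i)
    (coordIdeal_le_maximalIdeal p hp b i) (coordIdeal_le_ker p hp b i)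
  refine ⟨hss.1, ?_, ?_, hss.2⟩
  · intro h
    obtain ⟨g, hg⟩ : ∃ g, g = (tinyGen p hp b i).1 := ⟨_, rfl⟩
    have h1 : g ∈ RingHom.ker (tinyExt p hp b i).toAlgHom := hg ▸ (tinyGen p hp b i).2
    rw [h] at h1
    exact tinyGen_ne_zero p hp b i (Subtype.ext (hg ▸ h1))
  · refine ⟨⟨(tinyGen p hp b i).1, ?_⟩⟩
    apply le_antisymm
    · intro z hz
      obtain ⟨α, hα⟩ := exists_eq_smul_tinyGen p hp b i ⟨z, hz⟩
      have h1 : z = α • (tinyGen p hp b i).1 := congrArg Subtype.val hα
      rw [h1, Algebra.smul_def]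
      exact Ideal.mul_mem_left _ _ (Ideal.subset_span rfl)
    · rw [Ideal.submodule_span_eq, Ideal.span_le]
      rintro _ rfl
      exact (tinyGen p hp b i).2

end Main

section Final

variable {F : Art k k ⥤ Type v} {V : Type u} [AddCommGroup V] [Module k V]
  (T : ObsTheory F V) {C' C : Art k k} (p : C' ⟶ C) (hp : IsSemismallExt p) (u : F.obj C)
  {ι : Type u} (b : Module.Basis ι k ↥(RingHom.ker p.toAlgHom)) (i : ι)

lemma obs_tinyExt :
    T.obs (tinyExt p hp b i) (isSmallExt_tinyExt p hp b i).isSemismallExt u =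
      LinearMap.lTensor V ((kerToQuot (coordIdeal_le_maximalIdeal p hp b i) p
        (coordIdeal_le_ker p hp b i)).restrictScalars k) (T.obs p hp u) :=
  T.obs_quot p hp (coordIdeal p hp b i) (coordIdeal_le_maximalIdeal p hp b i)
        (coordIdeal_le_ker p hp b i) (isSmallExt_tinyExt p hp b i).isSemismallExt u


/-- the set of obstructions along tiny extensions. -/
def tinyObsSet (T : ObsTheory F V) : Set V :=
  {v : V | ∃ (B' B : Art k k) (t : B' ⟶ B) (ht : IsSmallExt t)
    (w : F.obj B) (φ : ↥(RingHom.ker t.toAlgHom) ≃ₗ[k] k),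
    v = TensorProduct.rid k V (LinearMap.lTensor V φ.toLinearMap (T.obs t ht.isSemismallExt w))}

lemma coeff_eq (c : ι →₀ V) (hc : (c.sum fun j v => v ⊗ₜ[k] b j) = T.obs p hp u) :
    c i = TensorProduct.rid k V (LinearMap.lTensor V (tinyEquiv p hp b i).toLinearMap
        (T.obs (tinyExt p hp b i) (isSmallExt_tinyExt p hp b i).isSemismallExt u)) := by
  classical
  rw [obs_tinyExt, ← hc]
  rw [Finsupp.sum, map_sum, map_sum, map_sum]
  have h2 : ∀ j ∈ c.support, (TensorProduct.rid k V) ((LinearMap.lTensor V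
      (tinyEquiv p hp b i).toLinearMap) ((LinearMap.lTensor V
        ((kerToQuot (coordIdeal_le_maximalIdeal p hp b i) p
          (coordIdeal_le_ker p hp b i)).restrictScalars k)) (c j ⊗ₜ[k] b j))) =
      if j = i then c j else 0 := by
    intro j _
    rw [LinearMap.lTensor_tmul, LinearMap.lTensor_tmul]
    change (TensorProduct.rid k V) (c j ⊗ₜ[k] (tinyEquiv p hp b i)
      (kerToQuot (coordIdeal_le_maximalIdeal p hp b i) p (coordIdeal_le_ker p hp b i) (b j))) = _
    rw [tinyEquiv_kerToQuot, TensorProduct.rid_tmul, Module.Basis.coord_apply,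
      Module.Basis.repr_self, Finsupp.single_apply]
    split_ifs with h
    · rw [one_smul]
    · rw [zero_smul]
  rw [Finset.sum_congr rfl h2, Finset.sum_ite_eq']
  split_ifs with h
  · rfl
  · exact Finsupp.notMem_support_iff.mp h

lemma coeff_mem (c : ι →₀ V) (hc : (c.sum fun j v => v ⊗ₜ[k] b j) = T.obs p hp u) :
    c i ∈ tinyObsSet T :=
  ⟨_, _, tinyExt p hp b i, isSmallExt_tinyExt p hp b i, u, tinyEquiv p hp b i,
    coeff_eq T p hp u b i c hc⟩

theorem obs_mem_range :
    T.obs p hp u ∈ LinearMap.range (LinearMap.rTensor (↥(RingHom.ker p.toAlgHom))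
      (Submodule.span k (tinyObsSet T)).subtype) := by
  classical
  obtain ⟨b⟩ : Nonempty (Module.Basis (Module.Free.ChooseBasisIndex k ↥(RingHom.ker p.toAlgHom)) k
      ↥(RingHom.ker p.toAlgHom)) := ⟨Module.Free.chooseBasis k _⟩
  obtain ⟨c, hc⟩ := TensorProduct.eq_repr_basis_right b (T.obs p hp u)
  rw [← hc, Finsupp.sum]
  refine Submodule.sum_mem _ fun i _ => ?_
  exact ⟨(⟨c i, Submodule.subset_span (coeff_mem T p hp u b i c hc)⟩ :
    Submodule.span k (tinyObsSet T)) ⊗ₜ b i, rfl⟩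

end Final

end Groth.Agent.H8.ArtObs
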