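import Mathlib
import Groth.Prelude
import Groth.Agent.Lib.Helper8.ArtObs.SmoothPS

/-! Helper8: `h_R` is smooth iff `R` is a power series ring over `Λ`. -/

set_option autoImplicit false
universe u v

open IsLocalRing ArtFun ArtFun.Art CategoryTheory

namespace Groth.Agent.H8.ArtPS

variable {Λ : Type u} {k : Type u} [CommRing Λ] [Field k] [Algebra Λ k]
  [IsNoetherianRing Λ] [Module.Finite Λ k]
  [IsLocalRing Λ] [IsAdicComplete (IsLocalRing.maximalIdeal Λ) Λ]

/-- the base ring as a coefficient ring. -/
noncomputable abbrev baseCRing (hk : Function.Surjective (algebraMap Λ k)) : CRing Λ k :=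
  { carrier := Λ
    res := Algebra.ofId Λ k
    res_surjective := hk
    isAdicComplete := inferInstance }

variable (hk : Function.Surjective (algebraMap Λ k)) (R : CRing Λ k)

lemma hRS_base : R.res.comp (IsScalarTower.toAlgHom Λ (baseCRing hk).carrier R.carrier) =
    (baseCRing hk).res := by
  apply AlgHom.ext
  intro l
  change R.res (algebraMap Λ R.carrier l) = algebraMap Λ k l
  rw [AlgHom.commutes]

lemma homSet_base_ext {A : Art Λ k} (a b : HomSet (baseCRing hk).carrier (baseCRing hk).res A) :
    a = b := by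
  apply Subtype.ext
  apply AlgHom.ext
  intro l
  have h1 : a.1 l = algebraMap Λ A l := a.1.commutes l
  have h2 : b.1 l = algebraMap Λ A l := b.1.commutes l
  rw [h1, h2]

theorem isVersal_base_iff :
    IsVersal ((Family.self (baseCRing hk).carrier (baseCRing hk).res).along
      (IsScalarTower.toAlgHom Λ (baseCRing hk).carrier R.carrier) (hRS_base hk R)) ↔
      IsSmoothFunctor (hR R.carrier R.res) := by
  constructor
  · intro hv B A μ hμ φ
    have hres : B.res.comp (Algebra.ofId Λ B) = (baseCRing hk).res := by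
      apply AlgHom.ext
      intro l
      change B.res (algebraMap Λ B l) = algebraMap Λ k l
      rw [AlgHom.commutes]
    obtain ⟨ψ, h1, -⟩ := hv μ hμ φ ⟨Algebra.ofId Λ B, hres⟩ (homSet_base_ext hk _ _)
    exact ⟨ψ, h1⟩
  · intro hs B A μ hμ φ y _
    obtain ⟨ψ, hψ⟩ := hs μ hμ φ
    exact ⟨ψ, hψ, homSet_base_ext hk _ _⟩

include hk in
theorem smooth_iff_powerSeries :
    IsSmoothFunctor (hR R.carrier R.res) ↔
      ∃ n : ℕ, Nonempty (R.carrier ≃ₐ[Λ] MvPowerSeries (Fin n) Λ) := by
  rw [← isVersal_base_iff hk R]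
  constructor
  · intro hv
    exact exists_equiv_of_isVersal (baseCRing hk) R (hRS_base hk R) hv
  · rintro ⟨n, ⟨e⟩⟩
    exact isVersal_of_equiv (baseCRing hk) R (hRS_base hk R) n e

end Groth.Agent.H8.ArtPS
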