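import Mathlib
import Groth.Prelude
import Groth.Agent.Lib.Helper8.ArtObs.SmoothLambda
import Groth.Agent.Lib.Helper6.ArtFunEndo

/-! Helper8: a family over a power series ring which is bijective on tangent spaces is miniversal,
when a hull exists. -/

set_option autoImplicit false
universe u v

open IsLocalRing ArtFun ArtFun.Art CategoryTheory

namespace Groth.Agent.H8.ArtPS

variable {Λ : Type u} {k : Type u} [CommRing Λ] [Field k] [Algebra Λ k]
  [IsNoetherianRing Λ] [Module.Finite Λ k]

section Hull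

variable {F : Art Λ k ⥤ Type v} {H : CRing Λ k} (η : Family H.carrier H.res F)

/-- the unique point of `h_H(k)`. -/
noncomputable def basePt : HomSet H.carrier H.res (base Λ k) := ⟨H.res, AlgHom.id_comp _⟩

lemma homSet_kpt_ext (a b : HomSet H.carrier H.res (base Λ k)) : a = b :=
  Groth.Agent.H6.homSet_base_eq a b

/-- a miniversal family forces `F(k)` to be the point `η(pt)`. -/
lemma eq_basePt_of_isMiniversal (hη : IsMiniversal η) (x : F.obj (base Λ k)) :
    x = η.app _ (basePt (H := H)) := by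
  -- `x` is the image of an element of `F(k[ε])`
  have h1 : F.map (baseToDual ≫ toBase (dual Λ k)) x = x := by
    have : (baseToDual ≫ toBase (dual Λ k) : base Λ k ⟶ base Λ k) = 𝟙 _ := by
      rw [eq_toBase (baseToDual ≫ toBase (dual Λ k)), ← eq_toBase (𝟙 _)]
    rw [this, FunctorToTypes.map_id_apply]
  obtain ⟨φ, hφ⟩ := hη.2.2 (F.map baseToDual x)
  rw [FunctorToTypes.map_comp_apply, ← hφ, ← η.natural] at h1
  rw [← h1]
  congr 1
  exact homSet_kpt_ext _ _

/-- a miniversal family is objectwise surjective. -/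
lemma surjective_app_of_isMiniversal (hη : IsMiniversal η) (A : Art Λ k) :
    Function.Surjective (η.app A) := by
  intro y
  have h1 : F.map (toBase A) y = η.app _ (basePt (H := H)) := eq_basePt_of_isMiniversal η hη _
  obtain ⟨ψ, -, hψ⟩ := hη.1 (toBase A) A.res_surjective (basePt (H := H)) y h1
  exact ⟨ψ, hψ⟩

end Hull

section Main

variable [IsLocalRing Λ] [IsAdicComplete (maximalIdeal Λ) Λ]
  {F : Art Λ k ⥤ Type v} (hF : HasHull F)
  (R : CRing Λ k) (n : ℕ) (e : R.carrier ≃ₐ[Λ] MvPowerSeries (Fin n) Λ)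
  (ξ : Family R.carrier R.res F) (hξ : Function.Bijective (ξ.app (dual Λ k)))

include hF e hξ in
theorem isVersal_of_tangent_bijective : IsVersal ξ := by
  classical
  obtain ⟨⟨H, η, hη⟩⟩ := hF
  haveI := H.isAdicComplete
  haveI := R.isAdicComplete
  have hsurj := surjective_app_of_isMiniversal η hη
  obtain ⟨g, hg, hgξ⟩ := Groth.Agent.H6.exists_hom_of_family η hη.1 hsurj ξ
  have happ : ∀ (A : Art Λ k) (u : HomSet R.carrier R.res A),
      ξ.app A u = η.app A (Groth.Agent.H6.compHom g hg A u) := by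
    intro A u
    rw [← hgξ]
    rfl
  have hcinj : Function.Injective (Groth.Agent.H6.compHom g hg (dual Λ k)) := fun u₁ u₂ h =>
    hξ.1 (by rw [happ, happ, h])
  have hcsurj : Function.Surjective (Groth.Agent.H6.compHom g hg (dual Λ k)) := fun v => by
    obtain ⟨u, hu⟩ := hξ.2 (η.app _ v)
    refine ⟨u, hη.2.1 ?_⟩
    rw [← happ, hu]
  have hsq : ∀ ⦃B A A' : Art Λ k⦄ (p₁ p₂ : B ⟶ A') (f : A' ⟶ A) (h : IsFibreProd p₁ p₂ f f),
      IsSmallExt f → Function.Injective (cmp (hR H.carrier H.res) h) := by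
    intro B A A' p₁ p₂ f h _
    exact (Groth.Agent.H6.isLeftExact_of_isUniversal (Family.self H.carrier H.res)
      (fun A => Function.bijective_id) p₁ p₂ f f h).1
  have hinjall : ∀ A : Art Λ k, Function.Injective (Groth.Agent.H6.compHom g hg A) := fun A =>
    Groth.Agent.H6.injective_app_of_hsq ((Family.self H.carrier H.res).along g hg) hsq hcinj A
  have hgs : Function.Surjective g := Groth.Agent.H6.surjective_of_compHom_injective g hg hinjall
  have hgres : ∀ x : H.carrier, R.res (g x) = H.res x := fun x =>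
    congrArg (fun t : H.carrier →ₐ[Λ] k => t x) hg
  -- a section of `g`
  have hXm : ∀ j, e.symm (MvPowerSeries.X j) ∈ maximalIdeal R.carrier := by
    intro j
    rw [mem_maximalIdeal, mem_nonunits_iff]
    intro hu
    have h1 : IsUnit (e (e.symm (MvPowerSeries.X j))) := hu.map e
    rw [AlgEquiv.apply_symm_apply, MvPowerSeries.isUnit_iff_constantCoeff,
      MvPowerSeries.constantCoeff_X] at h1
    exact not_isUnit_zero h1
  choose h hh using fun j : Fin n => hgs (e.symm (MvPowerSeries.X j))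
  have hhm : ∀ j, h j ∈ maximalIdeal H.carrier := by
    intro j
    rw [CRing.mem_maximalIdeal_iff, ← hgres, hh j, ← CRing.mem_maximalIdeal_iff]
    exact hXm j
  obtain ⟨sT, hsT⟩ := Groth.Agent.H5.CA.exists_algHom_mvPowerSeries' Λ H.carrier
    (maximalIdeal H.carrier) h hhm
  have hgsT : g.comp sT = e.symm.toAlgHom := by
    apply Groth.Agent.H5.CA.algHom_ext_of_isHausdorff_fin (maximalIdeal R.carrier)
    · intro j
      change g (sT (MvPowerSeries.X j)) ∈ _
      rw [hsT, hh]
      exact hXm j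
    · intro j
      change g (sT (MvPowerSeries.X j)) = e.symm (MvPowerSeries.X j)
      rw [hsT, hh]
  have hgs' : ∀ r : R.carrier, g (sT (e r)) = r := by
    intro r
    have := congrArg (fun t : MvPowerSeries (Fin n) Λ →ₐ[Λ] R.carrier => t (e r)) hgsT
    change g (sT (e r)) = e.symm (e r) at this
    rw [this, AlgEquiv.symm_apply_apply]
  -- the endomorphism `s ∘ g` of `H`
  let α : H.carrier →ₐ[Λ] H.carrier := (sT.comp e.toAlgHom).comp g
  have hαapp : ∀ x, α x = sT (e (g x)) := fun x => rfl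
  have hα : H.res.comp α = H.res := by
    apply AlgHom.ext
    intro x
    change H.res (α x) = H.res x
    rw [← hgres, hαapp, hgs', hgres]
  have hαinj : Function.Injective (Groth.Agent.H6.compHom α hα (dual Λ k)) := by
    intro u₁ u₂ h12
    obtain ⟨v₁, rfl⟩ := hcsurj u₁
    obtain ⟨v₂, rfl⟩ := hcsurj u₂
    have : v₁ = v₂ := by
      apply Subtype.ext
      apply AlgHom.ext
      intro r
      have h1 := congrArg (fun t : HomSet H.carrier H.res (dual Λ k) => t.1 (sT (e r))) h12
      change v₁.1 (g (sT (e (g (sT (e r)))))) = v₂.1 (g (sT (e (g (sT (e r)))))) at h1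
      rw [hgs', hgs'] at h1
      exact h1
    rw [this]
  have hαbij := Groth.Agent.H6.bijective_of_compHom_dual_injective α hα hαinj
  have hginj : Function.Injective g := by
    intro x y hxy
    apply hαbij.1
    rw [hαapp, hαapp, hxy]
  let ge : H.carrier ≃ₐ[Λ] R.carrier := AlgEquiv.ofBijective g ⟨hginj, hgs⟩
  have hge : ∀ r, g (ge.symm r) = r := fun r => ge.apply_symm_apply r
  have hge' : ∀ x, ge.symm (g x) = x := fun x => ge.symm_apply_apply x
  -- versality
  intro B A μ hμ φ y hy
  obtain ⟨ψ', h1, h2⟩ := hη.1 μ hμ (Groth.Agent.H6.compHom g hg A φ) y (by rw [hy, happ])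
  have hψres : B.res.comp (ψ'.1.comp ge.symm.toAlgHom) = R.res := by
    apply AlgHom.ext
    intro r
    change B.res (ψ'.1 (ge.symm r)) = R.res r
    have h3 : B.res (ψ'.1 (ge.symm r)) = H.res (ge.symm r) :=
      congrArg (fun t : H.carrier →ₐ[Λ] k => t (ge.symm r)) ψ'.2
    rw [h3, ← hgres, hge]
  obtain ⟨ψ, hψdef⟩ : ∃ ψ : HomSet R.carrier R.res B,
      ψ = ⟨ψ'.1.comp ge.symm.toAlgHom, hψres⟩ := ⟨_, rfl⟩
  refine ⟨ψ, ?_, ?_⟩
  · rw [hψdef]
    apply Subtype.ext
    apply AlgHom.ext
    intro r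
    change μ (ψ'.1 (ge.symm r)) = φ.1 r
    have h3 := congrArg (fun t : HomSet H.carrier H.res A => t.1 (ge.symm r)) h1
    change μ (ψ'.1 (ge.symm r)) = φ.1 (g (ge.symm r)) at h3
    rw [h3, hge]
  · rw [happ, ← h2, hψdef]
    congr 1
    apply Subtype.ext
    apply AlgHom.ext
    intro x
    change ψ'.1 (ge.symm (g x)) = ψ'.1 x
    rw [hge']

end Main

end Groth.Agent.H8.ArtPS
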